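import Mathlib.LinearAlgebra.TensorProduct.Finiteness
import Mathlib.RingTheory.TensorProduct.Free
import Mathlib.RingTheory.Jacobson.Ring
import Mathlib.RingTheory.Jacobson.Artinian
import Mathlib.RingTheory.Flat.Basic
import Mathlib.FieldTheory.IsAlgClosed.Basic

/-!
# Domains over an algebraically closed field stay domains after tensoring
-/

universe u v w

open scoped TensorProduct

namespace Groth.Agent.GeomConn

variable {k : Type u} [Field k] [IsAlgClosed k]

theorem exists_algHom_of_isMaximal {A : Type v} [CommRing A] [Algebra k A] [Algebra.FiniteType k A]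
    (m : Ideal A) [m.IsMaximal] : ∃ π : A →ₐ[k] k, RingHom.ker π = m := by
  letI := Ideal.Quotient.field m
  have : Algebra.FiniteType k (A ⧸ m) :=
    .of_surjective (Ideal.Quotient.mkₐ k m) (Ideal.Quotient.mkₐ_surjective k m)
  have : Module.Finite k (A ⧸ m) := finite_of_finite_type_of_isJacobsonRing k (A ⧸ m)
  have : Algebra.IsIntegral k (A ⧸ m) := Algebra.IsIntegral.of_finite k _
  let e : k ≃ₐ[k] A ⧸ m :=
    AlgEquiv.ofBijective (Algebra.ofId k (A ⧸ m)) IsAlgClosed.algebraMap_bijective_of_isIntegral
  refine ⟨(e.symm : A ⧸ m →ₐ[k] k).comp (Ideal.Quotient.mkₐ k m), ?_⟩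
  ext a
  simp [RingHom.mem_ker, Ideal.Quotient.eq_zero_iff_mem]

theorem isDomain_tensorProduct_of_finiteType {A : Type v} [CommRing A] [Algebra k A]
    [Algebra.FiniteType k A] [IsDomain A] {B : Type w} [CommRing B] [Algebra k B] [IsDomain B]
    (z y : A ⊗[k] B) (h : z * y = 0) : z = 0 ∨ y = 0 := by
  classical
  let b := Module.Free.chooseBasis k B
  let c := Algebra.TensorProduct.basis A b
  have hπ : ∀ π : A →ₐ[k] k, (∀ i, π (c.repr z i) = 0) ∨ ∀ j, π (c.repr y j) = 0 := by
    intro π
    let ψ : A ⊗[k] B →ₐ[k] B :=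
      (Algebra.TensorProduct.lid k B).toAlgHom.comp (Algebra.TensorProduct.map π (AlgHom.id k B))
    have hψ : ∀ x i, b.repr (ψ x) i = π (c.repr x i) := by
      intro x i
      induction x using TensorProduct.induction_on with
      | zero => simp
      | add u v hu hv => simp [hu, hv]
      | tmul a q => simp [ψ, c, map_smul, mul_comm]
    have h0 : ψ z * ψ y = 0 := by rw [← map_mul, h, map_zero]
    rcases mul_eq_zero.1 h0 with h1 | h1
    · exact Or.inl fun i => by rw [← hψ, h1]; simp
    · exact Or.inr fun i => by rw [← hψ, h1]; simp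
  have : IsJacobsonRing A := isJacobsonRing_of_finiteType (A := k)
  have hij : ∀ i j, c.repr z i * c.repr y j = 0 := by
    intro i j
    have hj : (⊥ : Ideal A).jacobson = ⊥ := IsJacobsonRing.out inferInstance (Ideal.bot_prime.isRadical)
    rw [← Ideal.mem_bot, ← hj]
    refine Submodule.mem_sInf.2 fun m hm => ?_
    have := hm.2
    obtain ⟨π, rfl⟩ := exists_algHom_of_isMaximal (k := k) m
    rcases hπ π with h1 | h1 <;> simp [RingHom.mem_ker, h1]
  by_contra! hne
  obtain ⟨i, hi⟩ : ∃ i, c.repr z i ≠ 0 := by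
    by_contra! h'
    exact hne.1 (c.repr.injective (by ext i; simp [h']))
  obtain ⟨j, hj⟩ : ∃ j, c.repr y j ≠ 0 := by
    by_contra! h'
    exact hne.2 (c.repr.injective (by ext i; simp [h']))
  exact mul_ne_zero hi hj (hij i j)

/-- Over an algebraically closed field, a tensor product of domains is a domain. -/
theorem isDomain_tensorProduct (A : Type v) [CommRing A] [Algebra k A] [IsDomain A]
    (B : Type w) [CommRing B] [Algebra k B] [IsDomain B] : IsDomain (A ⊗[k] B) := by
  classical
  have : NoZeroDivisors (A ⊗[k] B) := ⟨fun {z y} h => by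
    obtain ⟨M, hM, hsub⟩ := TensorProduct.exists_finite_submodule_left_of_setFinite
      ({z, y} : Set (A ⊗[k] B)) (Set.toFinite _)
    obtain ⟨t, ht⟩ := Module.Finite.iff_fg.1 hM
    let A0 : Subalgebra k A := Algebra.adjoin k (t : Set A)
    have : Algebra.FiniteType k A0 := ⟨Subalgebra.fg_top A0 |>.2 ⟨t, rfl⟩⟩
    let ι : A0 ⊗[k] B →ₐ[k] A ⊗[k] B := Algebra.TensorProduct.map A0.val (AlgHom.id k B)
    have hι : Function.Injective ι := by
      show Function.Injective (LinearMap.rTensor B A0.val.toLinearMap)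
      exact Module.Flat.rTensor_preserves_injective_linearMap _ Subtype.val_injective
    have hmem : ∀ x ∈ ({z, y} : Set (A ⊗[k] B)), ∃ x', ι x' = x := by
      intro x hx
      obtain ⟨x', rfl⟩ := hsub hx
      have hle : M ≤ Subalgebra.toSubmodule A0 := ht ▸ Submodule.span_le.2 Algebra.subset_adjoin
      refine ⟨LinearMap.rTensor B (Submodule.inclusion hle) x', ?_⟩
      show LinearMap.rTensor B A0.val.toLinearMap (LinearMap.rTensor B (Submodule.inclusion hle) x') = _
      rw [← LinearMap.rTensor_comp_apply]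
      rfl
    obtain ⟨z', rfl⟩ := hmem z (by simp)
    obtain ⟨y', rfl⟩ := hmem y (by simp)
    rw [← map_mul] at h
    rcases isDomain_tensorProduct_of_finiteType z' y' (hι (h.trans (map_zero _).symm)) with h1 | h1
    · exact Or.inl (by rw [h1, map_zero])
    · exact Or.inr (by rw [h1, map_zero])⟩
  have : Nontrivial (A ⊗[k] B) :=
    (Algebra.TensorProduct.includeLeft_injective (S := k) (R := k) (A := A)
      (algebraMap k B).injective).nontrivial
  exact NoZeroDivisors.to_isDomain _

end Groth.Agent.GeomConn
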