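import Groth.Agent.GeomConn.Algebra
import Mathlib.AlgebraicGeometry.Morphisms.UniversallyOpen
import Mathlib.AlgebraicGeometry.Morphisms.Integral
import Mathlib.AlgebraicGeometry.PullbackCarrier
import Mathlib.FieldTheory.IsAlgClosed.AlgebraicClosure
import Mathlib.RingTheory.Spectrum.Prime.Topology

/-!
# A connected scheme with a rational point is geometrically connected
-/

universe u

open CategoryTheory CategoryTheory.Limits AlgebraicGeometry

namespace Groth.Agent.GeomConn

/-- Connected base, open surjection, preconnected fibres: connected source. -/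
theorem connectedSpace_of_isOpenMap {α β : Type*} [TopologicalSpace α] [TopologicalSpace β]
    [ConnectedSpace β] (f : α → β) (hc : Continuous f) (ho : IsOpenMap f)
    (hs : Function.Surjective f) (hfib : ∀ b, IsPreconnected (f ⁻¹' {b})) : ConnectedSpace α := by
  have hne : Nonempty α := hs.nonempty
  refine { toPreconnectedSpace := ⟨?_⟩, toNonempty := hne }
  intro U V hU hV hUV hneU hneV
  obtain ⟨_, -, hu⟩ := hneU
  obtain ⟨_, -, hv⟩ := hneV
  have hcov : Set.univ ⊆ f '' U ∪ f '' V := fun b _ => by
    obtain ⟨a, rfl⟩ := hs b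
    rcases hUV (Set.mem_univ a) with h | h
    · exact Or.inl (Set.mem_image_of_mem f h)
    · exact Or.inr (Set.mem_image_of_mem f h)
  obtain ⟨b, -, ⟨a1, ha1, hb1⟩, ⟨a2, ha2, hb2⟩⟩ := PreconnectedSpace.isPreconnected_univ (f '' U) (f '' V)
    (ho U hU) (ho V hV) hcov ⟨f _, trivial, Set.mem_image_of_mem f hu⟩ ⟨f _, trivial, Set.mem_image_of_mem f hv⟩
  obtain ⟨a, -, ha⟩ := hfib b U V hU hV (fun a _ => hUV (Set.mem_univ a)) ⟨a1, hb1, ha1⟩ ⟨a2, hb2, ha2⟩
  exact ⟨a, trivial, ha⟩

/-- An open and closed surjection with a preconnected fibre over a point of a connected base. -/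
theorem connectedSpace_of_isOpenMap_of_isClosedMap {α β : Type*} [TopologicalSpace α]
    [TopologicalSpace β] [ConnectedSpace β] (f : α → β) (ho : IsOpenMap f) (hcl : IsClosedMap f)
    (b : β) (hb : ∃ a, f ⁻¹' {b} = {a}) : ConnectedSpace α := by
  obtain ⟨a, ha⟩ := hb
  refine { toPreconnectedSpace := ?_, toNonempty := ⟨a⟩ }
  refine preconnectedSpace_iff_clopen.2 fun s hs => ?_
  have key : ∀ t : Set α, IsClopen t → t.Nonempty → a ∈ t := by
    intro t ht hne
    have h1 : f '' t = Set.univ :=
      IsClopen.eq_univ ⟨hcl t ht.1, ho t ht.2⟩ (hne.image f)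
    obtain ⟨a', ha', he⟩ := (h1 ▸ Set.mem_univ b : b ∈ f '' t)
    have : a' ∈ f ⁻¹' {b} := he
    rw [ha] at this
    exact this ▸ ha'
  by_contra! h
  exact key sᶜ hs.compl (Set.nonempty_compl.2 h.2) (key s hs h.1)

variable {k K : Type u} [Field k] [Field K] [Algebra k K]

/-- The base change of a scheme over `k` to `K`. -/
noncomputable abbrev bcTo (K : Type u) [Field K] [Algebra k K] {X : Scheme.{u}}
    (f : X ⟶ Spec (CommRingCat.of k)) : Scheme.{u} :=
  pullback f (Spec.map (CommRingCat.ofHom (algebraMap k K)))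

theorem surjective_specMap_field : Function.Surjective (Spec.map (CommRingCat.ofHom (algebraMap k K))) :=
  fun _ => ⟨(⊥ : PrimeSpectrum K), Subsingleton.elim (α := PrimeSpectrum k) _ _⟩

theorem isOpenMap_fst {X : Scheme.{u}} (f : X ⟶ Spec (CommRingCat.of k)) :
    IsOpenMap (pullback.fst f (Spec.map (CommRingCat.ofHom (algebraMap k K)))) := by
  have : UniversallyOpen (Spec.map (CommRingCat.ofHom (algebraMap k K))) := inferInstance
  exact Scheme.Hom.isOpenMap _

/-- The fibre over a point is irreducible when `k` is algebraically closed. -/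
theorem isPreconnected_fibre (K : Type u) [Field K] [Algebra k K] [IsAlgClosed k] {X : Scheme.{u}} (f : X ⟶ Spec (CommRingCat.of k)) (x : X) :
    _root_.IsPreconnected (pullback.fst f (Spec.map (CommRingCat.ofHom (algebraMap k K))) ⁻¹' {x}) := by
  obtain ⟨φ, hφ⟩ := Spec.map_surjective (X.fromSpecResidueField x ≫ f)
  let : Algebra k (X.residueField x) := φ.hom.toAlgebra
  have hφ' : φ = CommRingCat.ofHom (algebraMap k (X.residueField x)) := rfl
  let g := Spec.map (CommRingCat.ofHom (algebraMap k K))
  let ι : pullback (Spec.map φ) g ⟶ pullback f g :=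
    pullback.map _ _ _ _ (X.fromSpecResidueField x) (𝟙 _) (𝟙 _) (by simp [hφ]) (by simp)
  have hr : Set.range ι = pullback.fst f g ⁻¹' {x} := by
    rw [Scheme.Pullback.range_map, Scheme.range_fromSpecResidueField]
    simp
  rw [show (pullback.fst f (Spec.map (CommRingCat.ofHom (algebraMap k K))) ⁻¹' {x}) = Set.range ι from hr.symm]
  have : IsDomain (TensorProduct k (X.residueField x) K) := isDomain_tensorProduct _ _
  have : PreconnectedSpace ↥(pullback (Spec.map φ) g) := by
    have h : PreconnectedSpace (PrimeSpectrum (TensorProduct k (X.residueField x) K)) := inferInstance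
    let e := (pullbackSpecIso k (X.residueField x) K)
    exact Function.Surjective.denseRange (f := e.inv) e.inv.surjective |>.preconnectedSpace e.inv.continuous
  exact isPreconnected_range ι.continuous

theorem connectedSpace_bcTo_of_isAlgClosed [IsAlgClosed k] {X : Scheme.{u}} [ConnectedSpace X]
    (f : X ⟶ Spec (CommRingCat.of k)) : ConnectedSpace ↥(bcTo K f) := by
  refine connectedSpace_of_isOpenMap _ (Scheme.Hom.continuous _) (isOpenMap_fst f) ?_
    (isPreconnected_fibre K f)
  intro x
  have : x ∈ Set.range (pullback.fst f (Spec.map (CommRingCat.ofHom (algebraMap k K)))) := by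
    rw [Scheme.Pullback.range_fst]
    exact surjective_specMap_field _
  exact this

theorem connectedSpace_bcTo_algClosure {X : Scheme.{u}} [ConnectedSpace X]
    (f : X ⟶ Spec (CommRingCat.of k)) (s : Spec (CommRingCat.of k) ⟶ X) (hs : s ≫ f = 𝟙 _) :
    ConnectedSpace ↥(bcTo (AlgebraicClosure k) f) := by
  let g := Spec.map (CommRingCat.ofHom (algebraMap k (AlgebraicClosure k)))
  have : IsIntegralHom g := by
    rw [IsIntegralHom.SpecMap_iff]
    exact fun x => Algebra.IsIntegral.isIntegral x
  have hcl : IsClosedMap (pullback.fst f g) := Scheme.Hom.isClosedMap _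
  let pt : ↥(Spec (CommRingCat.of (AlgebraicClosure k))) := (⊥ : PrimeSpectrum (AlgebraicClosure k))
  let s' : Spec (CommRingCat.of (AlgebraicClosure k)) ⟶ pullback f g :=
    pullback.lift (g ≫ s) (𝟙 _) (by simp [hs])
  refine connectedSpace_of_isOpenMap_of_isClosedMap _ (isOpenMap_fst f) hcl (s (g pt)) ⟨s' pt, ?_⟩
  ext z
  simp only [Set.mem_preimage, Set.mem_singleton_iff]
  constructor
  · intro hz
    have hsc : IsPullback s' g (pullback.fst f g) s := by
      refine IsPullback.of_right ?_ ?_ (IsPullback.of_hasPullback f g).flip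
      · rw [show s' ≫ pullback.snd f g = 𝟙 _ from pullback.lift_snd _ _ _, hs]
        exact IsPullback.of_horiz_isIso (fst := 𝟙 _) (snd := g) (f := g) (g := 𝟙 _) ⟨by simp⟩
      · exact pullback.lift_fst _ _ _
    obtain ⟨w, hw, -⟩ := Scheme.exists_preimage_of_isPullback hsc z (g pt) hz
    rw [← hw, Subsingleton.elim (α := PrimeSpectrum (AlgebraicClosure k)) w pt]
  · rintro rfl
    rw [← Scheme.Hom.comp_apply, pullback.lift_fst, Scheme.Hom.comp_apply]

/-- A connected `k`-scheme with a rational point is geometrically connected. -/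
theorem connectedSpace_bcTo {X : Scheme.{u}} [ConnectedSpace X] (f : X ⟶ Spec (CommRingCat.of k))
    (s : Spec (CommRingCat.of k) ⟶ X) (hs : s ≫ f = 𝟙 _) : ConnectedSpace ↥(bcTo K f) := by
  let Ω := AlgebraicClosure K
  let σ : AlgebraicClosure k →ₐ[k] Ω := IsAlgClosed.lift
  let : Algebra (AlgebraicClosure k) Ω := σ.toRingHom.toAlgebra
  let a := Spec.map (CommRingCat.ofHom (algebraMap k K))
  let b := Spec.map (CommRingCat.ofHom (algebraMap K Ω))
  let c := Spec.map (CommRingCat.ofHom (algebraMap k (AlgebraicClosure k)))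
  let d := Spec.map (CommRingCat.ofHom (algebraMap (AlgebraicClosure k) Ω))
  have heq : d ≫ c = b ≫ a := by
    simp only [a, b, c, d, ← Spec.map_comp, ← CommRingCat.ofHom_comp]
    congr 2
    ext x
    exact (σ.commutes x).trans (IsScalarTower.algebraMap_apply k K Ω x)
  have := connectedSpace_bcTo_algClosure f s hs
  have h2 : ConnectedSpace ↥(bcTo Ω (pullback.snd f c)) := connectedSpace_bcTo_of_isAlgClosed _
  let π : pullback (pullback.snd f c) d ⟶ pullback f a :=
    pullback.lift (pullback.fst _ _ ≫ pullback.fst f c) (pullback.snd _ _ ≫ b) (by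
      rw [Category.assoc, pullback.condition, pullback.condition_assoc, heq, Category.assoc])
  have hπ : Function.Surjective π := by
    intro z
    have hsq : IsPullback π (pullback.snd (pullback.snd f c) d) (pullback.snd f a) b := by
      refine IsPullback.of_right ?_ ?_ (IsPullback.of_hasPullback f a)
      · have := (IsPullback.of_hasPullback (pullback.snd f c) d).paste_horiz (IsPullback.of_hasPullback f c)
        rw [heq] at this
        rw [show π ≫ pullback.fst f a = _ from pullback.lift_fst _ _ _]
        exact this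
      · exact pullback.lift_snd _ _ _
    obtain ⟨w, hw, -⟩ := Scheme.exists_preimage_of_isPullback hsq z (⊥ : PrimeSpectrum Ω)
      (Subsingleton.elim (α := PrimeSpectrum K) _ _)
    exact ⟨w, hw⟩
  exact hπ.connectedSpace π.continuous

/-- The product of connected `k`-schemes, one having a rational point, is connected. -/
theorem connectedSpace_pullback {X Y : Scheme.{u}} [ConnectedSpace X] [ConnectedSpace Y]
    (f : X ⟶ Spec (CommRingCat.of k)) (g : Y ⟶ Spec (CommRingCat.of k))
    (s : Spec (CommRingCat.of k) ⟶ X) (hs : s ≫ f = 𝟙 _) : ConnectedSpace ↥(pullback f g) := by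
  refine connectedSpace_of_isOpenMap (pullback.snd f g) (Scheme.Hom.continuous _) ?_ ?_ fun y => ?_
  · have : UniversallyOpen f := inferInstance
    exact Scheme.Hom.isOpenMap _
  · intro y
    refine ⟨pullback.lift (g ≫ s) (𝟙 Y) (by simp [hs]) y, ?_⟩
    rw [← Scheme.Hom.comp_apply, pullback.lift_snd]
    rfl
  · obtain ⟨φ, hφ⟩ := Spec.map_surjective (Y.fromSpecResidueField y ≫ g)
    let : Algebra k (Y.residueField y) := φ.hom.toAlgebra
    have := connectedSpace_bcTo (K := Y.residueField y) f s hs
    let ι : pullback f (Spec.map φ) ⟶ pullback f g :=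
      pullback.map _ _ _ _ (𝟙 _) (Y.fromSpecResidueField y) (𝟙 _) (by simp) (by simp [hφ])
    have hr : Set.range ι = pullback.snd f g ⁻¹' {y} := by
      rw [Scheme.Pullback.range_map, Scheme.range_fromSpecResidueField]
      simp
    rw [← hr]
    exact @isPreconnected_range _ _ _ _ this.toPreconnectedSpace _ ι.continuous

end Groth.Agent.GeomConn
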