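import Groth.Agent.GeomConn.Scheme
import Mathlib.AlgebraicGeometry.IdealSheaf.Subscheme
import Mathlib.AlgebraicGeometry.Fiber

/-!
# Connected components of fibres through a section are stable under base change
-/

universe u

open CategoryTheory CategoryTheory.Limits AlgebraicGeometry

namespace Groth.Agent.GeomConn

variable {k K : Type u} [Field k] [Field K] [Algebra k K]

/-- The preimage in `Y_K` of a closed connected set through a rational point is connected. -/
theorem isPreconnected_preimage_of_rational {Y : Scheme.{u}} (f : Y ⟶ Spec (CommRingCat.of k))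
    (s : Spec (CommRingCat.of k) ⟶ Y) (hs : s ≫ f = 𝟙 _) (C : Set Y) (hC : IsClosed C)
    (hC' : _root_.IsPreconnected C) (pt : ↥(Spec (CommRingCat.of k))) (hpt : s pt ∈ C) :
    _root_.IsPreconnected (pullback.fst f (Spec.map (CommRingCat.ofHom (algebraMap k K))) ⁻¹' C) := by
  let I := Scheme.IdealSheafData.vanishingIdeal (⟨C, hC⟩ : TopologicalSpace.Closeds Y)
  have hr : Set.range I.subschemeι = C := by
    rw [Scheme.IdealSheafData.range_subschemeι, Scheme.IdealSheafData.coe_support_vanishingIdeal]
    rfl
  have : ConnectedSpace I.subscheme :=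
    { toPreconnectedSpace := ⟨by
        have := I.subschemeι.isClosedEmbedding.isInducing.isPreconnected_image (s := Set.univ)
        rw [Set.image_univ, hr] at this
        exact this.1 hC'⟩
      toNonempty := by
        obtain ⟨c, -⟩ : s pt ∈ Set.range I.subschemeι := hr ▸ hpt
        exact ⟨c⟩ }
  have : Surjective (pullback.fst s I.subschemeι) := by
    refine ⟨fun z => ?_⟩
    have : z ∈ s ⁻¹' Set.range I.subschemeι := by
      rw [hr, Set.mem_preimage, Subsingleton.elim (α := PrimeSpectrum k) z pt]
      exact hpt
    rw [← Scheme.Pullback.range_fst] at this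
    exact this
  have : IsIso (pullback.fst s I.subschemeι) := isIso_of_isClosedImmersion_of_surjective _
  let s0 := inv (pullback.fst s I.subschemeι) ≫ pullback.snd s I.subschemeι
  have hs0 : s0 ≫ I.subschemeι ≫ f = 𝟙 _ := by
    simp only [s0, Category.assoc, ← pullback.condition_assoc, hs, Category.comp_id, IsIso.inv_hom_id]
  have := connectedSpace_bcTo (K := K) (I.subschemeι ≫ f) s0 hs0
  let j : bcTo K (I.subschemeι ≫ f) ⟶ bcTo K f :=
    pullback.map _ _ _ _ I.subschemeι (𝟙 _) (𝟙 _) (by simp) (by simp)
  have hj : Set.range j = pullback.fst f (Spec.map (CommRingCat.ofHom (algebraMap k K))) ⁻¹' C := by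
    rw [Scheme.Pullback.range_map, hr]
    simp
  rw [← hj]
  exact isPreconnected_range j.continuous

theorem isPreconnected_fibre_inter {S S' X : Scheme.{u}} (π : X ⟶ S) (f : S' ⟶ S) (e : S ⟶ X)
    (he : e ≫ π = 𝟙 _) (x0 : Spec (CommRingCat.of k) ⟶ S) [IsPreimmersion x0]
    (y0 : Spec (CommRingCat.of K) ⟶ S')
    (s : S) (s' : S') (hx0 : Set.range x0 = {s}) (hy0 : ∀ p, y0 p = s')
    (hcomm : Spec.map (CommRingCat.ofHom (algebraMap k K)) ≫ x0 = y0 ≫ f) :
    _root_.IsPreconnected (pullback.snd π f ⁻¹' {s'} ∩
        pullback.fst π f ⁻¹' connectedComponentIn (π ⁻¹' {s}) (e s)) := by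
  let a := Spec.map (CommRingCat.ofHom (algebraMap k K))
  let ι : pullback π x0 ⟶ X := pullback.fst _ _
  let σ : Spec (CommRingCat.of k) ⟶ pullback π x0 :=
    pullback.lift (x0 ≫ e) (𝟙 _) (by simp [he])
  have hιr : Set.range ι = π ⁻¹' {s} := by
    rw [Scheme.Pullback.range_fst, hx0]
  have hιe : Topology.IsEmbedding ι := (Scheme.Hom.isEmbedding _)
  let C : Set ↥(pullback π x0) := ι ⁻¹' connectedComponentIn (π ⁻¹' {s}) (e s)
  have hC' : _root_.IsPreconnected C := by
    rw [← hιe.isInducing.isPreconnected_image, Set.image_preimage_eq_of_subset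
      (hιr ▸ connectedComponentIn_subset _ _)]
    exact isPreconnected_connectedComponentIn
  let pt : ↥(Spec (CommRingCat.of k)) := (⊥ : PrimeSpectrum k)
  have hxpt : x0 pt = s := by
    have : x0 pt ∈ Set.range x0 := Set.mem_range_self _
    rw [hx0] at this
    exact this
  have hσ : ι (σ pt) = e s := by
    rw [← Scheme.Hom.comp_apply, pullback.lift_fst, Scheme.Hom.comp_apply, hxpt]
  have hC : IsClosed C := by
    have hCeq : C = connectedComponent (σ pt) := by
      apply Set.Subset.antisymm
      · refine hC'.subset_connectedComponent ?_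
        simp only [C, Set.mem_preimage]
        rw [hσ]
        exact mem_connectedComponentIn (hσ ▸ hιr ▸ Set.mem_range_self _)
      · intro z hz
        refine IsPreconnected.subset_connectedComponentIn
          (isPreconnected_connectedComponent.image _ ι.continuous.continuousOn)
          ⟨_, mem_connectedComponent, hσ⟩ ?_ ⟨z, hz, rfl⟩
        rw [← hιr]
        exact Set.image_subset_range _ _
    rw [hCeq]
    exact isClosed_connectedComponent
  have hp := isPreconnected_preimage_of_rational (K := K) (pullback.snd π x0) σ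
    (pullback.lift_snd _ _ _) C hC hC' pt (by
      simp only [C, Set.mem_preimage]
      rw [hσ]
      exact mem_connectedComponentIn (hσ ▸ hιr ▸ Set.mem_range_self _))
  let j : pullback (pullback.snd π x0) a ⟶ pullback π f :=
    pullback.lift (pullback.fst _ _ ≫ ι) (pullback.snd _ _ ≫ y0) (by
      rw [Category.assoc, pullback.condition, pullback.condition_assoc, hcomm, Category.assoc])
  have := hp.image j j.continuous.continuousOn
  refine (congrArg _root_.IsPreconnected ?_).mp this
  ext z
  constructor
  · rintro ⟨w, hw, rfl⟩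
    refine ⟨?_, ?_⟩
    · show pullback.snd π f (j w) = s'
      rw [← Scheme.Hom.comp_apply, pullback.lift_snd, Scheme.Hom.comp_apply, hy0]
    · rw [Set.mem_preimage, ← Scheme.Hom.comp_apply, pullback.lift_fst, Scheme.Hom.comp_apply]
      exact hw
  · rintro ⟨hz1, hz2⟩
    have hsq : IsPullback j (pullback.snd _ a) (pullback.snd π f) y0 := by
      refine IsPullback.of_right ?_ ?_ (IsPullback.of_hasPullback π f)
      · have := (IsPullback.of_hasPullback (pullback.snd π x0) a).paste_horiz
          (IsPullback.of_hasPullback π x0)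
        rw [hcomm] at this
        rw [show j ≫ pullback.fst π f = _ from pullback.lift_fst _ _ _]
        exact this
      · exact pullback.lift_snd _ _ _
    obtain ⟨w, hw, -⟩ := Scheme.exists_preimage_of_isPullback hsq z (⊥ : PrimeSpectrum K)
      (by rw [hy0]; exact hz1)
    refine ⟨w, ?_, hw⟩
    show ι (pullback.fst _ a w) ∈ connectedComponentIn (π ⁻¹' {s}) (e s)
    have : ι (pullback.fst _ a w) = pullback.fst π f (j w) := by
      rw [← Scheme.Hom.comp_apply, ← Scheme.Hom.comp_apply]
      rw [show j ≫ pullback.fst π f = _ from pullback.lift_fst _ _ _]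
    rw [this, hw]
    exact hz2

/-- Connected components of fibres at the points of a section commute with base change. -/
theorem connectedComponentIn_fibre_bc {S S' X : Scheme.{u}} (π : X ⟶ S) (f : S' ⟶ S) (e : S ⟶ X)
    (he : e ≫ π = 𝟙 _) (e' : S' ⟶ pullback π f) (he' : e' ≫ pullback.snd π f = 𝟙 _)
    (hee : e' ≫ pullback.fst π f = f ≫ e) (s' : S') :
    connectedComponentIn (pullback.snd π f ⁻¹' {s'}) (e' s') =
      pullback.snd π f ⁻¹' {s'} ∩
        pullback.fst π f ⁻¹' connectedComponentIn (π ⁻¹' {f s'}) (e (f s')) := by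
  set s := f s' with hsdef
  have hmem' : e' s' ∈ pullback.snd π f ⁻¹' {s'} := by
    show pullback.snd π f (e' s') = s'
    rw [← Scheme.Hom.comp_apply, he']
    rfl
  have hfe : pullback.fst π f (e' s') = e s := by
    rw [← Scheme.Hom.comp_apply, hee, Scheme.Hom.comp_apply]
  apply Set.Subset.antisymm
  · refine fun z hz => ⟨connectedComponentIn_subset _ _ hz, ?_⟩
    have h1 : pullback.fst π f '' connectedComponentIn (pullback.snd π f ⁻¹' {s'}) (e' s') ⊆
        connectedComponentIn (π ⁻¹' {s}) (e s) := by
      refine IsPreconnected.subset_connectedComponentIn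
        (isPreconnected_connectedComponentIn.image _ (Scheme.Hom.continuous _).continuousOn)
        ⟨_, mem_connectedComponentIn hmem', hfe⟩ ?_
      rintro _ ⟨w, hw, rfl⟩
      have hw' : pullback.snd π f w = s' := (connectedComponentIn_subset (pullback.snd π f ⁻¹' {s'}) _ hw : _)
      show π (pullback.fst π f w) = s
      rw [← Scheme.Hom.comp_apply, pullback.condition, Scheme.Hom.comp_apply, hw']
    exact h1 ⟨z, hz, rfl⟩
  · refine IsPreconnected.subset_connectedComponentIn ?_ ⟨hmem', ?_⟩ Set.inter_subset_left
    swap
    · rw [Set.mem_preimage, hfe]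
      refine mem_connectedComponentIn ?_
      show π (e s) = s
      rw [← Scheme.Hom.comp_apply, he]
      rfl
    let : Algebra (S.residueField s) (S'.residueField s') := (f.residueFieldMap s').hom.toAlgebra
    exact isPreconnected_fibre_inter (k := S.residueField s) (K := S'.residueField s') π f e he
      (S.fromSpecResidueField s) (S'.fromSpecResidueField s') s s'
      (Scheme.range_fromSpecResidueField s) (fun p => Scheme.fromSpecResidueField_apply s' p)
      (Scheme.Hom.SpecMap_residueFieldMap_fromSpecResidueField f s')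

end Groth.Agent.GeomConn
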